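import Cfsg.Agent.H0.TC
set_option maxRecDepth 100000
namespace H0.TCU341
open H0
noncomputable def r0 : TC.WTr := (.node (.node (.node (.node (.node (.node (.leaf [1] 0 0 false) (.leaf [3, 5, 5, 2, 2, 1] 15 5 true)) (.leaf [2, 0, 5, 1, 3, 1] 9 3 false)) (.node (.node (.leaf [1, 1] 7 0 true) (.leaf [5, 5, 0, 5, 0, 5, 1] 13 0 true)) (.leaf [0, 2, 0, 4, 1, 3] 9 3 true))) (.node (.node (.node (.leaf [5, 5, 5, 5, 5, 2, 1, 5] 14 8 true) (.leaf [1, 4, 4, 4, 0, 4, 1] 13 3 false)) (.leaf [3] 2 0 false)) (.node (.node (.leaf [2, 4, 4, 4, 2, 5, 2] 17 3 false) (.leaf [4] 4 1 false)) (.leaf [4, 4, 2, 5, 0, 3] 15 4 false)))) (.node (.node (.node (.node (.leaf [3, 3, 4, 4, 2, 5] 15 2 false) (.leaf [3, 5, 5, 5, 3, 0, 3] 17 6 true)) (.leaf [0, 4, 1, 3, 3, 0] 9 5 true)) (.node (.node (.leaf [2, 2, 0, 5, 1, 3] 9 2 false) (.leaf [1, 3, 1, 2, 2, 0] 9 6 false)) (.leaf [4, 4, 0, 2, 1, 5, 5] 18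 5 false))) (.node (.node (.node (.leaf [4, 1, 3, 3, 0, 2] 9 6 true) (.leaf [2, 1, 5, 5, 5, 5, 1, 3] 19 2 false)) (.leaf [3] 2 0 false)) (.node (.leaf [0] 0 1 false) (.leaf [5] 4 0 false))))) (.node (.node (.node (.node (.node (.leaf [3, 4, 4, 4, 4, 4, 1, 4] 14 2 false) (.leaf [0, 3, 4, 4, 4, 4, 4, 1] 14 1 false)) (.leaf [5, 5, 5, 5, 3, 0, 5] 16 7 true)) (.node (.node (.leaf [4, 0, 3, 4, 4, 4, 4, 4] 14 0 false) (.leaf [5, 1, 3, 5, 2, 1, 5, 5] 19 7 false)) (.leaf [3, 0, 2, 0, 4, 1] 9 2 true))) (.node (.node (.node (.leaf [5, 0, 5, 1, 5, 5, 5] 13 3 true) (.leaf [2, 5, 0, 3, 3, 4] 15 6 false)) (.leaf [3] 2 0 false)) (.node (.leaf [0] 0 1 false) (.leaf [5, 2, 1, 5, 5, 5, 5, 1] 19 1 false)))) (.node (.node (.node (.node (.leaf [4, 1, 4, 1, 4, 4, 4] 13 0 false) (.leaf [0, 4, 1, 4, 1, 4, 4] 13 7 false)) (.leaf [2, 1, 4, 3, 5, 5] 15 2 true)) (.node (.node (.leaf [3, 3, 0, 2, 0, 4]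 9 1 true) (.leaf [0, 3, 3, 4, 4, 2] 15 1 false)) (.leaf [1, 5, 5, 2, 4, 4, 0] 18 6 true))) (.node (.node (.node (.leaf [1] 0 0 false) (.leaf [5, 3, 4, 4, 0, 2, 1] 18 3 false)) (.leaf [4, 3, 5, 5, 5, 3, 0] 17 5 true)) (.node (.leaf [3] 2 0 false) (.leaf [1, 3, 3, 0, 2, 0] 9 0 true))))))
noncomputable def r1 : TC.WTr := (.node (.node (.node (.node (.node (.node (.leaf [5, 1, 5, 5, 5, 0, 5] 13 5 true) (.leaf [4, 4, 1, 4, 0, 3, 4, 4] 14 6 false)) (.leaf [1, 4, 3, 5, 5, 2] 15 3 true)) (.node (.node (.leaf [3, 1, 2, 2, 0, 5] 9 0 false) (.leaf [5, 2, 2, 1, 4, 3] 15 0 true)) (.leaf [4, 1, 2, 4, 4, 4, 4] 16 0 false))) (.node (.node (.node (.leaf [2, 0, 4, 1, 3, 3] 9 4 true) (.leaf [4, 0, 2, 1, 5, 5, 3] 18 6 false)) (.leaf [3] 2 0 false)) (.node (.node (.leaf [0] 0 1 false) (.leaf [4] 4 1 false)) (.leaf [3, 4, 4, 2, 5, 0] 15 3 false)))) (.node (.node (.node (.node (.leaf [2, 1, 5,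 5, 3, 4, 4] 18 0 false) (.leaf [4, 4, 4, 3, 4, 1, 2] 16 4 false)) (.leaf [0, 5, 1, 3, 1, 2] 9 4 false)) (.node (.node (.leaf [3, 5, 2, 1, 5, 5, 5, 5] 19 0 false) (.leaf [2, 2, 1, 4, 3, 5] 15 1 true)) (.leaf [0, 5, 2, 5, 5, 5, 5] 16 4 true))) (.node (.node (.node (.leaf [1] 0 0 false) (.leaf [2, 5, 5, 5, 5, 3, 0] 16 6 true)) (.leaf [2] 2 1 false)) (.node (.leaf [0] 0 1 false) (.leaf [4, 2, 5, 0, 3, 3] 15 5 false))))) (.node (.node (.node (.node (.node (.leaf [0, 0] 7 0 false) (.leaf [4, 2, 5, 2, 1, 2, 4] 17 6 false)) (.leaf [4, 4, 4, 4, 3, 4, 1] 16 3 false)) (.node (.node (.leaf [5, 5, 5, 0, 5, 0, 5] 13 7 true) (.leaf [0, 5, 1, 5, 5, 5, 0] 13 4 true)) (.leaf [0, 3, 4, 3, 5, 5, 5] 17 3 true))) (.node (.node (.node (.leaf [5, 2, 5, 5, 5, 5, 3] 16 5 true) (.leaf [4] 4 1 false)) (.leaf [3] 2 0 false)) (.node (.leaf [0] 0 1 false) (.leaf [1, 2, 2, 0, 5, 1] 9 1 false)))) (.node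 (.node (.node (.node (.leaf [3, 1, 5, 5, 2, 4, 4] 18 5 true) (.leaf [4, 4, 4, 0, 3, 4, 2, 0] 19 0 true)) (.leaf [3] 2 0 false)) (.node (.node (.leaf [5, 5, 2, 4, 4, 0, 3] 18 7 true) (.leaf [5, 3, 0, 5, 2, 5, 5] 16 2 true)) (.leaf [5, 5, 2, 2, 1, 4] 15 6 true))) (.node (.node (.node (.leaf [0] 0 1 false) (.leaf [5, 2, 4, 4, 0, 3, 1] 18 0 true)) (.leaf [3, 3, 3, 3] 8 0 true)) (.node (.leaf [5, 0, 3, 3, 4, 4] 15 0 false) (.leaf [2, 5, 2, 1, 2, 4, 4] 17 7 false))))))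
noncomputable def tS : Tr := (.leaf (nat_lit 0xfffbb46ed292c16babe7ffad5df2fb0d8efdefbffd5abcc362b56ecdf3fffdf0d7a795f2dfaeefff47e9a51a4ea9646bfffbbdbe6778d5a312cffff3ad678b04a73d459ffe3189334d7850e66dffe24c96db7bef48aca7ffad02411563e63f283ffdd28deaec47d2393bffebddb19c34790988ffffbe44745d8df3e8ac7ff22a6b15115211c443ffdf411b8c738d70bcfffec6d0ca2223213db1fff2d6154b3a74230d0fff116578add8d6797ffff977e7f75045eb8cb9ffcf915c1179e53cf3dffe759f13272144a8457ff7df6fadea761145afffbd811337ebfc649d1ffc44db679944294ca4ffed29f20896d78c6387ffb7af6a4f1f824a227ffca04b34656d8892cdffdd388839e96a744a9ffeb865c152110d767afff857080442f28295dfff8875478e29a1ef299ffe3146537e21e7b45fffe93abd887a53281bb7ff35d8eaba4e610e423ff93f10ce5619cf5647ffcd611422e21b16a78ffe444c92a535c468437ff84d6f55257b10c56fffaa510b03672a17577ffc42ba927c4f4d9d7affe4f24a8852b84ed2cfff21e6ad0b1d622a217ffcd72e44e9ee8852adffcae0441f38b6bbc62ffe3e07b8ce08873d3a7ff2b78d4d91a31a2113ff8c42b6342b8044225ffc7b0439d0444b90ceffe10cab0f54483d0c9fff1e687c219132203cbff8f1ae15b9ec843217ffeb80421e10a0d08efffe108770ed1d853461fff18ce9cb58421d63abff8e91d0108738e61cbffc720411c6388af0c7ffe104708e01be4206f7ff1ba4286e0411b636bff8d91b01046b8d61abffc4a11112600049091ffe2404780011c42c46fff11822c45089102003ff88810e21842800185ffc0000008810c21041))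
noncomputable def tJ : Tr := (.leaf (nat_lit 0x2015442044100c1154a018160a9d2c2001340004000a470833100c114509100011500b201523208a2824e700e02015440041100cd054090000c688352001301c010812b61a63200114004410001150a00800000283282aa50000100005d40018009a80000000428832081000024020013480832826020002180c09800000184480330800200260200f438c00100001d00318003a0060282a300006100050540718000a800008000002a32001231c0810001148c0000802003208000002402001301040282670000018006980000006300433080000026020012000201000014800000a00003208040082402001340004282600000518008980000800811663200100000028200000021002004000180008000020011000012822000000100000440018000880001000004000180008000000000000300800000200001ef00000))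
noncomputable def tQ : Tr := (.leaf (nat_lit 0x0))
noncomputable def tR : TC.WTr := (.node r0 r1)
def hl : List ℕ := [4, 5, 5, 4]
def B : List (List ℕ) := [[0, 1], [1, 0], [2, 3], [3, 2], [4, 5], [5, 4], [4, 4, 4, 4, 4, 4, 4, 4, 4, 4, 4, 4, 4, 4, 4], [0, 0, 0], [2, 2, 2, 2, 2], [1, 3, 1, 2, 2, 0, 5], [0, 2, 0, 2, 0, 2, 0, 2, 0, 2, 0, 2, 0, 2, 0, 2, 0, 2, 0, 2, 0, 2, 0, 2, 0, 2, 0, 2, 0, 2], [0, 2, 1, 3, 0, 2, 1, 3, 0, 2, 1, 3, 0, 2, 1, 3], [0, 3, 0, 3, 0, 3, 0, 3, 0, 3, 0, 3, 0, 3, 0, 3, 0, 3, 0, 3, 0, 3, 0, 3, 0, 3, 0, 3, 0, 3], [0, 4, 1, 4, 1, 4, 4, 4], [1, 4, 0, 3, 4, 4, 4, 4, 4], [2, 5, 0, 3, 3, 4, 4], [3, 4, 1, 2, 4, 4, 4, 4], [2, 5, 2, 1, 2, 4, 4, 4], [0, 2, 1, 5, 5, 3, 4, 4], [1, 3, 5, 2, 1, 5, 5, 5, 5]]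
def subs : List (List ℕ) := [[4], [5]]
def ex : List (List ℕ) := []
def inv (x : ℕ) : ℕ := [1, 0, 3, 2, 5, 4].getD x 0
noncomputable def rS : ℕ → ℕ := rowOf tS (nat_lit 8) (nat_lit 255) (nat_lit 77) (nat_lit 151115727451828646838271)
noncomputable def rJ : ℕ → ℕ := rowOf tJ (nat_lit 8) (nat_lit 255) (nat_lit 40) (nat_lit 1099511627775)
noncomputable def C : TC.Cfg where
  S := look rS (nat_lit 11) (nat_lit 2047)
  J := look rJ (nat_lit 5) (nat_lit 31)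
  Q := lookQ tQ (nat_lit 8) (nat_lit 1) (nat_lit 1)
  R := tR.get
  hl := fun x => hl.contains x
  n := (nat_lit 64)
  M := (nat_lit 64)
  top := (nat_lit 1984)
  nl := (nat_lit 6)
  need := (nat_lit 6)
  nr := (nat_lit 15)
theorem k0 : TC.chkRange C 0 1 = true := by decide +kernel
theorem rows0 : ∀ c < (0 + 1) * 64, c < C.M → TC.chkRow C c = true :=
  TC.rows_step (TC.rows_zero C) k0
theorem main {G : Type*} [Group G] (g : ℕ → G) (hB : ∀ r ∈ B, ev g r = 1) (H : Subgroup G)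
    (hH : ∀ w ∈ subs, ev g w ∈ H) :
    H.relIndex (Subgroup.closure (g '' {x | x < 6})) ≠ 0 ∧
      H.relIndex (Subgroup.closure (g '' {x | x < 6})) ≤ 64 :=
  TC.index_le C B subs ex inv hl tR.hint rfl (by decide +kernel) (by decide +kernel)
    (TC.rows_done rows0 (by decide +kernel)) g hB H hH
end H0.TCU341
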